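import Cfsg.Agent.Lib.RealClass.RealPrime

/-!
An orbit sharing a prime with every non-trivial orbit, for a coprime action on an elementary
abelian `2`-group (the even class size half of S4192).
-/

set_option autoImplicit false
set_option linter.style.haveILetI false

namespace CfsgLib.RealGraph

theorem normal_le_sylow {G : Type*} [Group G] {p : ℕ} {N : Subgroup G} [N.Normal]
    (hN : IsPGroup p N) (P : Sylow p G) : N ≤ P := by
  have h := P.is_maximal' (P.2.to_sup_of_normal_right hN) le_sup_left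
  rw [← h]
  exact le_sup_right

variable {G : Type*} [Group G] [Finite G]

open scoped Classical in
set_option maxHeartbeats 800000 in
/-- An element sharing a prime with every non-trivial orbit. -/
theorem exists_common [Group.IsSolvable G] : ∀ (n : ℕ) (W : Subgroup G), Nat.card W = n → W.Normal →
    (∀ v ∈ W, v * v = 1) → (∀ v ∈ W, ∀ w ∈ W, v * w = w * v) →
    (∀ v ∈ W, ∀ s : G, (∃ k : ℕ, orderOf s = 2 ^ k) → s * v = v * s) →
    ∃ z ∈ W, ∀ v ∈ W, (Subgroup.centralizer ({v} : Set G)).index ≠ 1 →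
      ∃ d : ℕ, d.Prime ∧ d ∣ (Subgroup.centralizer ({v} : Set G)).index ∧
        d ∣ (Subgroup.centralizer ({z} : Set G)).index := by
  intro n
  induction n using Nat.strong_induction_on with
  | _ n ih =>
  intro W hn hWn hsq hcomm hK
  haveI := hWn
  let f : G →* MulAut W := MulAut.conjNormal
  have hfap : ∀ (g : G) (v : W), (f g v : G) = g * v * g⁻¹ := fun g v => MulAut.conjNormal_apply g v
  by_cases htriv : f.ker = ⊤
  · refine ⟨1, W.one_mem, fun v hv hne => absurd ?_ hne⟩
    rw [Subgroup.index_eq_one, eq_top_iff]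
    intro g _
    have h : f g = 1 := MonoidHom.mem_ker.1 (htriv ▸ Subgroup.mem_top g)
    have h' := hfap g ⟨v, hv⟩
    rw [h, MulAut.one_apply] at h'
    exact Subgroup.mem_centralizer_singleton_iff.2 (mul_inv_eq_iff_eq_mul.1 h'.symm)
  haveI : Nontrivial (G ⧸ f.ker) := QuotientGroup.nontrivial_iff.2 htriv
  obtain ⟨L, hLn, hLne, hLmin⟩ := CfsgLib.Solvable.exists_minimal_normal (G := G ⧸ f.ker)
  haveI := hLn
  haveI : Group.IsSolvable (G ⧸ f.ker) := Group.isSolvable_of_surjective (QuotientGroup.mk'_surjective _)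
  obtain ⟨r, hr, hLr, -, -⟩ := CfsgLib.Solvable.exists_isPGroup_of_minimal_normal hLne hLmin
  haveI : Fact r.Prime := ⟨hr⟩
  have hodd : Odd (Nat.card (G ⧸ f.ker)) := by
    rw [← Nat.not_even_iff_odd, even_iff_two_dvd]
    intro h2
    obtain ⟨a, ha⟩ := exists_prime_orderOf_dvd_card' 2 h2
    obtain ⟨g, rfl⟩ := QuotientGroup.mk'_surjective f.ker a
    obtain ⟨k, m, hm, hgn⟩ := Nat.exists_eq_two_pow_mul_odd (orderOf_pos g).ne'
    have h1 : (QuotientGroup.mk' f.ker g) ^ m = 1 := by
      rw [← map_pow]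
      refine (QuotientGroup.eq_one_iff _).2 (MonoidHom.mem_ker.2 (MulEquiv.ext fun v => Subtype.ext ?_))
      rw [hfap, MulAut.one_apply, hK v v.2 (g ^ m) ⟨k, ?_⟩, mul_inv_cancel_right]
      rw [orderOf_pow_of_dvd hm.pos.ne' ⟨2 ^ k, by rw [hgn, mul_comm]⟩, hgn,
        Nat.mul_div_cancel _ hm.pos]
    have h3 := orderOf_dvd_of_pow_eq_one h1
    rw [ha] at h3
    exact Nat.not_even_iff_odd.2 hm (even_iff_two_dvd.2 h3)
  let act : (G ⧸ f.ker) →* MulAut W := QuotientGroup.kerLift f
  have hact : ∀ (g : G) (v : W), (act (g : G ⧸ f.ker) v : G) = g * v * g⁻¹ := hfap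
  have hLodd : Odd (Nat.card L) := hodd.of_dvd_nat L.card_subgroup_dvd_card
  letI : CommGroup W :=
    { (inferInstance : Group W) with mul_comm := fun a b => Subtype.ext (hcomm a a.2 b b.2) }
  haveI : Fintype L := Fintype.ofFinite L
  let e : W → W := fun v => ∏ l : L, act (l : G ⧸ f.ker) v
  have he_mul : ∀ v w, e (v * w) = e v * e w := fun v w => by
    simp only [e, map_mul, Finset.prod_mul_distrib]
  have he_fix : ∀ v, ∀ l ∈ L, act l (e v) = e v := by
    intro v l hl
    show act l (∏ m : L, act (m : G ⧸ f.ker) v) = _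
    rw [map_prod]
    refine Fintype.prod_equiv (Equiv.mulLeft (⟨l, hl⟩ : L)) _ _ fun m => ?_
    rw [Equiv.coe_mulLeft, Subgroup.coe_mul, map_mul, MulAut.mul_apply]
  have he_conj : ∀ (g : G ⧸ f.ker) v, e (act g v) = act g (e v) := by
    intro g v
    show _ = act g (∏ m : L, act (m : G ⧸ f.ker) v)
    rw [map_prod]
    refine Fintype.prod_equiv (MulAut.conjNormal g⁻¹ : L ≃* L).toEquiv _ _ fun m => ?_
    rw [← MulAut.mul_apply, ← MulAut.mul_apply, ← map_mul, ← map_mul]
    congr 2
    simp [MulAut.conjNormal_apply, mul_assoc]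
  have he_id : ∀ v, (∀ l ∈ L, act l v = v) → e v = v := by
    intro v hv
    show (∏ l : L, act (l : G ⧸ f.ker) v) = v
    rw [Finset.prod_congr rfl (fun (l : L) _ => hv l l.2), Finset.prod_const, Finset.card_univ,
      ← Nat.card_eq_fintype_card]
    obtain ⟨j, hj⟩ := hLodd
    rw [hj, pow_succ, pow_mul, show v ^ 2 = 1 from Subtype.ext (by rw [pow_two]; exact hsq v v.2),
      one_pow, one_mul]
  -- the fixed subgroup
  set C := W ⊓ Subgroup.centralizer ((L.comap (QuotientGroup.mk' f.ker) : Subgroup G) : Set G)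
  have hCmem : ∀ v : W, (v : G) ∈ C ↔ ∀ l ∈ L, act l v = v := by
    intro v
    constructor
    · intro h l hl
      obtain ⟨g, rfl⟩ := QuotientGroup.mk'_surjective f.ker l
      refine Subtype.ext ?_
      show (act (g : G ⧸ f.ker) v : G) = v
      rw [hact, Subgroup.mem_centralizer_iff.1 h.2 g hl, mul_inv_cancel_right]
    · intro h
      refine ⟨v.2, Subgroup.mem_centralizer_iff.2 fun g hg => ?_⟩
      have := congrArg Subtype.val (h _ hg)
      rw [QuotientGroup.mk'_apply, hact] at this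
      exact mul_inv_eq_iff_eq_mul.1 this
  obtain ⟨v1, hv1⟩ : ∃ v1 : W, ¬ ∀ l ∈ L, act l v1 = v1 := by
    by_contra h
    push Not at h
    refine hLne ((Subgroup.eq_bot_iff_forall _).2 fun l hl => QuotientGroup.kerLift_injective f ?_)
    rw [map_one]
    exact MulEquiv.ext fun v => h v l hl
  have hClt : Nat.card C < n := by
    rw [← hn]
    refine lt_of_le_of_ne (Subgroup.card_le_of_le inf_le_left) fun h => hv1 ((hCmem v1).1 ?_)
    have := Subgroup.eq_of_le_of_card_ge (inf_le_left : C ≤ W) h.ge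
    exact this.ge v1.2
  have hCn : C.Normal := inferInstance
  obtain ⟨zC, hzC, hz⟩ := ih _ hClt C rfl hCn (fun v hv => hsq v hv.1)
    (fun v hv w hw => hcomm v hv.1 w hw.1) (fun v hv => hK v hv.1)
  let zW : W := ⟨zC, hzC.1⟩
  have hezW : e zW = zW := he_id zW ((hCmem zW).1 hzC)
  set z : W := zW * (v1 * e v1) with hzdef
  have hez : e z = zW := by
    rw [he_mul, hezW, he_mul, he_id _ (fun l hl => he_fix v1 l hl),
      show e v1 * e v1 = 1 from Subtype.ext (hsq _ (e v1).2), mul_one]
  have hzmoved : ¬ ∀ l ∈ L, act l z = z := by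
    intro h
    refine hv1 fun l hl => ?_
    have h' := h l hl
    rw [hzdef, map_mul, map_mul, he_fix v1 l hl, (hCmem zW).1 hzC l hl, mul_right_inj,
      mul_left_inj] at h'
    exact h'
  -- a moved element has class size divisible by `r`
  have hdiv : ∀ v : W, ¬ (∀ l ∈ L, act l v = v) →
      r ∣ (Subgroup.centralizer ({(v : G)} : Set G)).index := by
    intro v hv
    by_contra hnd
    refine hv fun l hl => ?_
    obtain ⟨P, hP⟩ := exists_sylow_le (p := r)
      (H := (Subgroup.centralizer ({(v : G)} : Set G)).map (QuotientGroup.mk' f.ker))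
      fun h => hnd (h.trans (Subgroup.index_map_dvd _ (QuotientGroup.mk'_surjective _)))
    obtain ⟨g, hg, rfl⟩ := hP (normal_le_sylow hLr P hl)
    refine Subtype.ext ?_
    show (act (g : G ⧸ f.ker) v : G) = v
    rw [hact, Subgroup.mem_centralizer_singleton_iff.1 hg, mul_inv_cancel_right]
  clear_value z
  refine ⟨(z : G), z.2, fun v hv hne => ?_⟩
  by_cases hvC : ∀ l ∈ L, act l (⟨v, hv⟩ : W) = ⟨v, hv⟩
  · obtain ⟨d, hd, hdv, hdz⟩ := hz v ((hCmem ⟨v, hv⟩).2 hvC) hne
    refine ⟨d, hd, hdv, hdz.trans (Subgroup.index_dvd_of_le fun g hg => ?_)⟩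
    rw [Subgroup.mem_centralizer_singleton_iff] at hg ⊢
    have h1 : act (g : G ⧸ f.ker) z = z := Subtype.ext (by rw [hact, hg, mul_inv_cancel_right])
    have h2 : act (g : G ⧸ f.ker) zW = zW := by rw [← hez, ← he_conj, h1]
    have h3 := congrArg Subtype.val h2
    rw [hact] at h3
    exact mul_inv_eq_iff_eq_mul.1 h3
  · have h1 := hdiv ⟨v, hv⟩ hvC
    have h2 := hdiv z hzmoved
    exact ⟨r, hr, h1, h2⟩

end CfsgLib.RealGraph
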