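import Cfsg.Agent.Lib.Invol.Counting
import Cfsg.Agent.Lib.Solvable.MinNormal
import Mathlib.GroupTheory.SchurZassenhaus

/-!
Real elements of prime power order: a solvable group generated by its `2`-elements has a real
`q`-element for every odd prime `q` dividing its order, and none occurs when the class size of
every such element is coprime to an odd class size prime to `q` (for S4192).
-/

set_option autoImplicit false
set_option linter.style.haveILetI false

namespace CfsgLib.RealGraph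

variable {G : Type*} [Group G]

theorem inverter_odd_pow {s x : G} (h : s * x * s⁻¹ = x⁻¹) (j : ℕ) :
    s ^ (2 * j + 1) * x * (s ^ (2 * j + 1))⁻¹ = x⁻¹ := by
  induction j with
  | zero => simpa using h
  | succ j ih =>
    rw [show 2 * (j + 1) + 1 = 2 + (2 * j + 1) by omega, pow_add]
    calc s ^ 2 * s ^ (2 * j + 1) * x * (s ^ 2 * s ^ (2 * j + 1))⁻¹
        = s * (s * (s ^ (2 * j + 1) * x * (s ^ (2 * j + 1))⁻¹) * s⁻¹) * s⁻¹ := by
          rw [pow_two]; group
      _ = s * (s * x * s⁻¹)⁻¹ * s⁻¹ := by rw [ih]; group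
      _ = x⁻¹ := by rw [h, inv_inv, h]

theorem inverter_two [Finite G] {s x : G} (h : s * x * s⁻¹ = x⁻¹) :
    ∃ g : G, (∃ k : ℕ, orderOf g = 2 ^ k) ∧ g * x * g⁻¹ = x⁻¹ := by
  obtain ⟨k, m, hm, hn⟩ := Nat.exists_eq_two_pow_mul_odd (orderOf_pos s).ne'
  obtain ⟨j, rfl⟩ := hm
  refine ⟨s ^ (2 * j + 1), ⟨k, ?_⟩, inverter_odd_pow h j⟩
  rw [orderOf_pow_of_dvd (by omega) ⟨2 ^ k, by rw [hn, mul_comm]⟩, hn,
    Nat.mul_div_cancel _ (by omega)]

/-- The set of `2`-elements. -/
abbrev twoEl (G : Type*) [Group G] : Set G := {g : G | ∃ k : ℕ, orderOf g = 2 ^ k}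

instance twoEl_closure_normal : (Subgroup.closure (twoEl G)).Normal :=
  ⟨fun a ha g => by
    have : Subgroup.closure (twoEl G) ≤ (Subgroup.closure (twoEl G)).comap (MulAut.conj g).toMonoidHom := by
      rw [Subgroup.closure_le]
      rintro b ⟨k, hk⟩
      refine Subgroup.subset_closure ⟨k, ?_⟩
      rw [MulEquiv.coe_toMonoidHom, MulEquiv.orderOf_eq, hk]
    exact this ha⟩

/-- A real element lies in the subgroup generated by the `2`-elements. -/
theorem real_mem_twoEl [Finite G] {x : G} (hx : IsConj x x⁻¹) : x ∈ Subgroup.closure (twoEl G) := by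
  set K := Subgroup.closure (twoEl G) with hK
  obtain ⟨s, hs⟩ := isConj_iff.1 hx
  obtain ⟨g, hg2, hg⟩ := inverter_two hs
  have hgK : g ∈ K := Subgroup.subset_closure hg2
  have hsq : x * x ∈ K := by
    have h1 : x * g * x⁻¹ * g⁻¹ ∈ K :=
      K.mul_mem ((inferInstance : K.Normal).conj_mem g hgK x) (K.inv_mem hgK)
    rwa [show x * g * x⁻¹ * g⁻¹ = x * (g * x * g⁻¹)⁻¹ by group, hg, inv_inv] at h1
  obtain ⟨k, m, hm, hn⟩ := Nat.exists_eq_two_pow_mul_odd (orderOf_pos x).ne'
  obtain ⟨j, rfl⟩ := hm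
  have h2 : x ^ (2 * j + 1) ∈ K := Subgroup.subset_closure ⟨k, by
    rw [orderOf_pow_of_dvd (by omega) ⟨2 ^ k, by rw [hn, mul_comm]⟩, hn, Nat.mul_div_cancel _ (by omega)]⟩
  have e : x = x ^ (2 * j + 1) * ((x * x) ^ j)⁻¹ := by
    rw [← pow_two, ← pow_mul, pow_succ', mul_assoc, mul_inv_cancel, mul_one]
  rw [e]
  exact K.mul_mem h2 (K.inv_mem (K.pow_mem hsq j))

/-- A subgroup of index prime to `p` contains a Sylow `p`-subgroup. -/
theorem exists_sylow_le [Finite G] {p : ℕ} [hp : Fact p.Prime] {H : Subgroup G} (h : ¬ p ∣ H.index) :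
    ∃ P : Sylow p G, (P : Subgroup G) ≤ H := by
  obtain ⟨Q⟩ : Nonempty (Sylow p H) := inferInstance
  refine ⟨Sylow.ofCard ((Q : Subgroup H).map H.subtype) ?_, ?_⟩
  · rw [Subgroup.card_map_of_injective H.subtype_injective, Sylow.card_eq_multiplicity,
      ← H.card_mul_index, Nat.factorization_mul Nat.card_pos.ne' H.index_ne_zero_of_finite,
      Finsupp.add_apply, Nat.factorization_eq_zero_of_not_dvd h, add_zero]
  · exact Subgroup.map_subtype_le _

/-- A `p`-element is conjugate into any subgroup of index prime to `p`. -/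
theorem exists_conj_mem [Finite G] {p : ℕ} [Fact p.Prime] {H : Subgroup G} (h : ¬ p ∣ H.index)
    {y : G} {k : ℕ} (hy : y ^ p ^ k = 1) : ∃ g : G, g * y * g⁻¹ ∈ H := by
  obtain ⟨P, hP⟩ := exists_sylow_le h
  have hpy : IsPGroup p (Subgroup.zpowers y) := by
    rintro ⟨_, i, rfl⟩
    refine ⟨k, Subtype.ext ?_⟩
    show (y ^ i) ^ (p ^ k) = 1
    rw [← zpow_natCast, zpow_comm, zpow_natCast, hy, one_zpow]
  obtain ⟨R, hR⟩ := hpy.exists_le_sylow
  obtain ⟨g, hg⟩ := MulAction.exists_smul_eq G R P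
  refine ⟨g, hP ?_⟩
  rw [← hg]
  exact ⟨y, hR (Subgroup.mem_zpowers y), rfl⟩

/-- A real element of order greater than two has even class size. -/
theorem two_dvd_index [Finite G] {x : G} (hx : IsConj x x⁻¹) (h2 : x * x ≠ 1) :
    2 ∣ (Subgroup.centralizer ({x} : Set G)).index := by
  have h := CfsgLib.Invol.card_extCentralizer (by rwa [pow_two]) hx
  have hd := Subgroup.card_subgroup_dvd_card (CfsgLib.Invol.extCentralizer x)
  rw [h, ← (Subgroup.centralizer ({x} : Set G)).card_mul_index, mul_comm 2] at hd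
  exact (Nat.mul_dvd_mul_iff_left Nat.card_pos).1 hd

theorem sq_ne_one {p : ℕ} [hp : Fact p.Prime] (hp2 : p ≠ 2) {y : G} {k : ℕ} (hy : y ^ p ^ k = 1)
    (hy1 : y ≠ 1) : y * y ≠ 1 := by
  intro h
  refine hy1 ?_
  have hg : Nat.gcd 2 (p ^ k) = 1 :=
    Nat.Coprime.pow_right k ((Nat.coprime_primes Nat.prime_two hp.out).2 hp2.symm)
  simpa [hg] using pow_gcd_eq_one.2 ⟨(pow_two y).trans h, hy⟩

/-- A solvable group generated by `2`-elements has a real `q`-element for odd `q` dividing its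
order. -/
theorem exists_real_of_gen {K : Type*} [Group K] [Finite K] [Group.IsSolvable K]
    (hgen : Subgroup.closure (twoEl K) = ⊤) {q : ℕ} [hq : Fact q.Prime] (hq2 : q ≠ 2)
    (hdvd : q ∣ Nat.card K) :
    ∃ y s : K, y ≠ 1 ∧ (∃ k : ℕ, y ^ q ^ k = 1) ∧ s * y * s⁻¹ = y⁻¹ := by
  obtain ⟨M, ⟨hMn, hMq⟩, hmax⟩ := exists_maximal_of_wellFoundedGT
    (fun M : Subgroup K => M.Normal ∧ q ∣ M.index) ⟨⊥, inferInstance, by rwa [Subgroup.index_bot]⟩
  haveI := hMn
  set f := QuotientGroup.mk' M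
  have hfs : Function.Surjective f := QuotientGroup.mk'_surjective M
  haveI : Nontrivial (K ⧸ M) := by
    rw [← Finite.one_lt_card_iff_nontrivial, ← Subgroup.index_eq_card]
    exact lt_of_lt_of_le hq.out.one_lt
      (Nat.le_of_dvd (Nat.pos_of_ne_zero M.index_ne_zero_of_finite) hMq)
  haveI : Group.IsSolvable (K ⧸ M) := Group.isSolvable_of_surjective hfs
  obtain ⟨L, hLn, hLne, hLmin⟩ := CfsgLib.Solvable.exists_minimal_normal (G := K ⧸ M)
  haveI := hLn
  obtain ⟨r, hr, hLr, -, -⟩ := CfsgLib.Solvable.exists_isPGroup_of_minimal_normal hLne hLmin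
  have hLidx : ¬ q ∣ L.index := by
    intro h
    refine hLne ?_
    have h' : q ∣ (L.comap f).index := by rwa [Subgroup.index_comap_of_surjective _ hfs]
    have hle : M ≤ L.comap f := fun m hm => by
      rw [Subgroup.mem_comap, show f m = 1 from (QuotientGroup.eq_one_iff m).2 hm]
      exact L.one_mem
    have hMe : L.comap f ≤ M := hmax ⟨inferInstance, h'⟩ hle
    rw [← Subgroup.map_comap_eq_self_of_surjective hfs L, eq_bot_iff]
    rintro _ ⟨x, hx, rfl⟩
    exact Subgroup.mem_bot.2 ((QuotientGroup.eq_one_iff x).2 (hMe hx))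
  have hrq : r = q := by
    have h1 : q ∣ Nat.card L := (hq.out.dvd_mul.1
      (by rw [L.card_mul_index, ← Subgroup.index_eq_card]; exact hMq)).resolve_right hLidx
    haveI : Fact r.Prime := ⟨hr⟩
    obtain ⟨n, hn⟩ := IsPGroup.iff_card.1 hLr
    exact ((Nat.prime_dvd_prime_iff_eq hq.out hr).1 (hq.out.dvd_of_dvd_pow (hn ▸ h1))).symm
  subst hrq
  obtain ⟨P, hP⟩ := exists_sylow_le (p := r) (H := L.comap f)
    (by rwa [Subgroup.index_comap_of_surjective _ hfs])
  have hPL : (P : Subgroup K).map f = L := by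
    refine Subgroup.eq_of_le_of_card_ge (Subgroup.map_le_iff_le_comap.2 hP) (Nat.le_of_dvd Nat.card_pos ?_)
    obtain ⟨n, hn⟩ := IsPGroup.iff_card.1 hLr
    have h1 : ¬ r ∣ ((P : Subgroup K).map f).index := fun h =>
      P.not_dvd_index' Subgroup.index_ne_zero_of_finite (h.trans (Subgroup.index_map_dvd _ hfs))
    have h2 : Nat.card L ∣ Nat.card ((P : Subgroup K).map f) * ((P : Subgroup K).map f).index := by
      rw [Subgroup.card_mul_index]; exact L.card_subgroup_dvd_card
    exact (Nat.Coprime.dvd_of_dvd_mul_right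
      (by rw [hn]; exact Nat.Coprime.pow_left n ((Nat.Prime.coprime_iff_not_dvd hr).2 h1)) h2)
  have hN := Sylow.normalizer_sup_eq_top' P hP
  set H := Subgroup.normalizer ((P : Subgroup K) : Set K) with hH
  have hHQ : H.map f = ⊤ := by
    have hNN : ((P : Subgroup K).map f) ≤ H.map f := Subgroup.map_mono Subgroup.le_normalizer
    have h := congrArg (Subgroup.map f) hN
    rw [Subgroup.map_sup, Subgroup.map_comap_eq_self_of_surjective hfs,
      Subgroup.map_top_of_surjective _ hfs] at h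
    rw [hPL] at hNN
    exact (sup_eq_left.2 hNN).symm.trans h
  by_contra hcon
  push Not at hcon
  -- all `2`-elements of the normaliser centralise `P`
  have key : ∀ k : ℕ, ∀ s ∈ H, s ^ 2 ^ k = 1 → ∀ u ∈ (P : Subgroup K), s * u * s⁻¹ = u := by
    intro k
    induction k with
    | zero =>
      intro s _ hs u _
      rw [pow_zero, pow_one] at hs
      rw [hs]; group
    | succ k ih =>
      intro s hs hs1 u hu
      by_contra hne
      have hss := ih (s * s) (H.mul_mem hs hs) (by rw [← pow_two, ← pow_mul, ← pow_succ', hs1]) u hu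
      set y := u⁻¹ * (s * u * s⁻¹) with hy
      have hyP : y ∈ (P : Subgroup K) :=
        (P : Subgroup K).mul_mem ((P : Subgroup K).inv_mem hu)
          ((Subgroup.mem_normalizer_iff.1 hs u).1 hu)
      have hy1 : y ≠ 1 := fun h => hne (inv_mul_eq_one.1 h).symm
      obtain ⟨j, hj⟩ := P.2 ⟨y, hyP⟩
      refine hcon y s hy1 ⟨j, congrArg Subtype.val hj⟩ ?_
      calc s * y * s⁻¹ = (s * u * s⁻¹)⁻¹ * (s * s * u * (s * s)⁻¹) := by rw [hy]; group
        _ = y⁻¹ := by rw [hss, hy]; group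
  -- so `L` is central and has a normal complement
  have hcen : L ≤ Subgroup.center (K ⧸ M) := by
    have hc : Subgroup.closure (twoEl K) ≤ (Subgroup.centralizer (L : Set (K ⧸ M))).comap f := by
      rw [Subgroup.closure_le]
      rintro x ⟨k, hk⟩
      obtain ⟨h, hh, hhx⟩ : f x ∈ H.map f := by rw [hHQ]; trivial
      obtain ⟨e, m, hm, hn⟩ := Nat.exists_eq_two_pow_mul_odd (orderOf_pos h).ne'
      have hm2 : (h ^ m) ^ 2 ^ e = 1 := by rw [← pow_mul, mul_comm, ← hn, pow_orderOf_eq_one]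
      have h1 : f x ^ m ∈ Subgroup.centralizer (L : Set (K ⧸ M)) := by
        rw [← hhx, ← map_pow, Subgroup.mem_centralizer_iff]
        intro l hl
        rw [SetLike.mem_coe, ← hPL] at hl
        obtain ⟨u, hu, rfl⟩ := hl
        rw [← map_mul, ← map_mul]
        refine congrArg f ?_
        exact ((mul_inv_eq_iff_eq_mul).1 (key e _ (H.pow_mem hh m) hm2 u hu)).symm
      have h2 : f x ^ 2 ^ k = 1 := by rw [← map_pow, ← hk, pow_orderOf_eq_one, map_one]
      show f x ∈ Subgroup.centralizer (L : Set (K ⧸ M))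
      have hg : Nat.gcd m (2 ^ k) = 1 := Nat.Coprime.pow_right k hm.coprime_two_right
      have e1 : f x = (f x ^ m) ^ (Nat.gcdA m (2 ^ k)) := by
        have := Nat.gcd_eq_gcd_ab m (2 ^ k)
        rw [hg] at this
        conv_lhs => rw [← zpow_one (f x)]
        rw [show (1 : ℤ) = (m : ℤ) * Nat.gcdA m (2 ^ k) + ((2 ^ k : ℕ) : ℤ) * Nat.gcdB m (2 ^ k) by
          exact_mod_cast this, zpow_add, zpow_mul, zpow_mul, zpow_natCast, zpow_natCast, h2, one_zpow,
          mul_one]
      rw [e1]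
      exact Subgroup.zpow_mem _ h1 _
    rw [hgen] at hc
    intro l hl
    rw [Subgroup.mem_center_iff]
    intro g
    obtain ⟨g, rfl⟩ := hfs g
    exact (Subgroup.mem_centralizer_iff.1 (hc (Subgroup.mem_top g)) l hl).symm
  obtain ⟨n, hn⟩ := IsPGroup.iff_card.1 hLr
  obtain ⟨C, hC⟩ := Subgroup.exists_right_complement'_of_coprime (N := L)
    (by rw [hn]; exact Nat.Coprime.pow_left n ((Nat.Prime.coprime_iff_not_dvd hr).2 hLidx))
  have hCn : C.Normal := by
    rw [← Subgroup.normalizer_eq_top_iff, eq_top_iff, ← hC.sup_eq_top, sup_le_iff]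
    refine ⟨fun l hl => Subgroup.mem_normalizer_iff.2 fun c => ?_, Subgroup.le_normalizer⟩
    rw [Subgroup.mem_center_iff.1 (hcen hl) c |>.symm, mul_inv_cancel_right]
  refine hLne ?_
  have hall : C = ⊤ := by
    have h : Subgroup.closure (twoEl K) ≤ C.comap f := by
      rw [Subgroup.closure_le]
      rintro x ⟨k, hk⟩
      show f x ∈ C
      refine (QuotientGroup.eq_one_iff (f x)).1 (orderOf_eq_one_iff.1 ?_)
      refine Nat.eq_one_of_dvd_coprimes (a := 2 ^ k) (b := r ^ n) ?_ ?_ ?_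
      · exact Nat.Coprime.pow k n ((Nat.coprime_primes Nat.prime_two hr).2 hq2.symm)
      · rw [← hk]
        exact (orderOf_map_dvd (QuotientGroup.mk' C) (f x)).trans (orderOf_map_dvd f x)
      · refine (orderOf_dvd_natCard _).trans (dvd_of_eq ?_)
        rw [← Subgroup.index_eq_card, hC.index_eq_card, hn]
    rw [hgen] at h
    rw [eq_top_iff]
    intro g _
    obtain ⟨g, rfl⟩ := hfs g
    exact h (Subgroup.mem_top g)
  rw [hall] at hC
  exact Subgroup.isComplement'_top_right.1 hC

/-- The same inside an ambient solvable group. -/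
theorem exists_real [Finite G] [Group.IsSolvable G] {q : ℕ} [Fact q.Prime] (hq2 : q ≠ 2)
    (hdvd : q ∣ Nat.card (Subgroup.closure (twoEl G))) :
    ∃ y ∈ Subgroup.closure (twoEl G), ∃ s ∈ Subgroup.closure (twoEl G),
      y ≠ 1 ∧ (∃ k : ℕ, y ^ q ^ k = 1) ∧ s * y * s⁻¹ = y⁻¹ := by
  set K := Subgroup.closure (twoEl G)
  have hgen : Subgroup.closure (twoEl K) = ⊤ := by
    rw [eq_top_iff, ← Subgroup.closure_closure_coe_preimage (k := twoEl G), Subgroup.closure_le]
    rintro g ⟨k, hk⟩
    exact Subgroup.subset_closure ⟨k, by rwa [Subgroup.orderOf_coe] at hk⟩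
  obtain ⟨y, s, hy, ⟨k, hk⟩, hs⟩ := exists_real_of_gen hgen hq2 hdvd
  exact ⟨y, y.2, s, s.2, fun h => hy (Subtype.ext h), ⟨k, congrArg Subtype.val hk⟩,
    congrArg Subtype.val hs⟩

variable [Finite G] {t : G}

/-- No real element of odd prime power order commutes, with its inverter, with an odd-size class. -/
theorem comm_false (ht2 : t * t = 1) (hb1 : (Subgroup.centralizer ({t} : Set G)).index ≠ 1)
    (hP : ∀ x : G, IsConj x x⁻¹ → 2 ∣ (Subgroup.centralizer ({x} : Set G)).index →
      ((Subgroup.centralizer ({x} : Set G)).index).Coprime (Subgroup.centralizer ({t} : Set G)).index)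
    {p : ℕ} [hp : Fact p.Prime] (hp2 : p ≠ 2) {y s : G} {k : ℕ} (hy : y ^ p ^ k = 1) (hy1 : y ≠ 1)
    (hs : s * y * s⁻¹ = y⁻¹) (hyt : Commute y t) (hst : Commute s t) : False := by
  have htinv : t⁻¹ = t := inv_eq_of_mul_eq_one_right ht2
  have hx : IsConj (y * t) (y * t)⁻¹ := isConj_iff.2 ⟨s, by
    rw [mul_inv_rev, htinv, ← mul_inv_cancel_right y⁻¹ s]
    calc s * (y * t) * s⁻¹ = s * y * s⁻¹ * (s * t * s⁻¹) := by group
      _ = y⁻¹ * t := by rw [hs, hst.eq, mul_inv_cancel_right]
      _ = _ := by rw [mul_inv_cancel_right, ← htinv, ← mul_inv_rev, ← mul_inv_rev, hyt.eq]⟩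
  have hsq : y * t * (y * t) = y * y := by
    rw [← mul_assoc, mul_assoc y t y, ← hyt.eq, ← mul_assoc, mul_assoc _ t t, ht2, mul_one]
  have hle : Subgroup.centralizer ({y * t} : Set G) ≤
      Subgroup.centralizer {y} ⊓ Subgroup.centralizer {t} := by
    intro g hg
    rw [Subgroup.mem_centralizer_singleton_iff] at hg
    have hgy : Commute g y := by
      obtain ⟨j, hj⟩ : Odd (p ^ k) := (hp.out.odd_of_ne_two hp2).pow
      have hc : Commute g (y * y) := by
        rw [← hsq]; exact (show Commute g (y * t) from hg).mul_right hg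
      have e : (y * y) ^ (j + 1) = y := by
        rw [← pow_two, ← pow_mul, show 2 * (j + 1) = p ^ k + 1 by omega, pow_succ, hy, one_mul]
      exact e ▸ hc.pow_right _
    refine Subgroup.mem_inf.2 ⟨Subgroup.mem_centralizer_singleton_iff.2 hgy.eq,
      Subgroup.mem_centralizer_singleton_iff.2 ?_⟩
    have : g * t = y⁻¹ * (g * (y * t)) := by rw [← mul_assoc g, hgy.eq, mul_assoc y, inv_mul_cancel_left]
    rw [this, hg, mul_assoc, inv_mul_cancel_left]
  have h2 : 2 ∣ (Subgroup.centralizer ({y * t} : Set G)).index := two_dvd_index hx (by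
    rw [hsq]; exact sq_ne_one hp2 hy hy1)
  exact hb1 (Nat.eq_one_of_dvd_coprimes (hP _ hx h2)
    (Subgroup.index_dvd_of_le (hle.trans inf_le_right)) dvd_rfl)

/-- No real `p`-element at all when `p` is prime to the odd class size. -/
theorem no_real (ht2 : t * t = 1) (hb1 : (Subgroup.centralizer ({t} : Set G)).index ≠ 1)
    (hP : ∀ x : G, IsConj x x⁻¹ → 2 ∣ (Subgroup.centralizer ({x} : Set G)).index →
      ((Subgroup.centralizer ({x} : Set G)).index).Coprime (Subgroup.centralizer ({t} : Set G)).index)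
    {p : ℕ} [Fact p.Prime] (hp2 : p ≠ 2) (hpb : ¬ p ∣ (Subgroup.centralizer ({t} : Set G)).index)
    {y s : G} {k : ℕ} (hy : y ^ p ^ k = 1) (hy1 : y ≠ 1) (hs : s * y * s⁻¹ = y⁻¹) : False := by
  obtain ⟨g, hg⟩ := exists_conj_mem hpb hy
  set y' := g * y * g⁻¹ with hy'
  set s' := g * s * g⁻¹ with hs'
  have hy'p : y' ^ p ^ k = 1 := by rw [conj_pow, hy, mul_one, mul_inv_cancel]
  have hy'1 : y' ≠ 1 := fun h => hy1 (by
    rw [hy', mul_inv_eq_one] at h
    exact mul_left_cancel (h.trans (mul_one g).symm))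
  have hs'y : s' * y' * s'⁻¹ = y'⁻¹ := by
    calc s' * y' * s'⁻¹ = g * (s * y * s⁻¹) * g⁻¹ := by rw [hy', hs']; group
      _ = y'⁻¹ := by rw [hs, hy']; group
  set A := Subgroup.centralizer ({y'} : Set G) with hA
  set B := Subgroup.centralizer ({t} : Set G) with hB
  have hyreal : IsConj y' y'⁻¹ := isConj_iff.2 ⟨s', hs'y⟩
  have hcop : Nat.Coprime A.index B.index :=
    hP y' hyreal (two_dvd_index hyreal (sq_ne_one hp2 hy'p hy'1))
  -- the centraliser of `y'` is transitive on the class of `t`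
  have htr : A.index * B.index ≤ (A ⊓ B).index := Nat.le_of_dvd
    (Nat.pos_of_ne_zero (A ⊓ B).index_ne_zero_of_finite)
    (hcop.mul_dvd_of_dvd_of_dvd (Subgroup.index_dvd_of_le inf_le_left)
      (Subgroup.index_dvd_of_le inf_le_right))
  rw [← Subgroup.relIndex_mul_index (inf_le_left (a := A) (b := B)), mul_comm A.index] at htr
  have hrel : B.index ≤ B.relIndex A := by
    have := Nat.le_of_mul_le_mul_right htr (Nat.pos_of_ne_zero A.index_ne_zero_of_finite)
    rwa [inf_comm, Subgroup.inf_relIndex_right] at this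
  have hsur : Function.Surjective fun a : A ⧸ B.subgroupOf A =>
      Quotient.map' (fun x : A => (x : G))
        (fun u v h => by
          rw [QuotientGroup.leftRel_apply] at h ⊢
          simpa [Subgroup.mem_subgroupOf] using h) a := by
    refine (Nat.bijective_iff_injective_and_card _).2 ⟨?_, ?_⟩ |>.2
    · intro u v
      refine Quotient.inductionOn₂' u v fun u v h => ?_
      refine Quotient.sound' ?_
      have h' := Quotient.exact' h
      rw [QuotientGroup.leftRel_apply] at h' ⊢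
      simpa [Subgroup.mem_subgroupOf] using h'
    · refine le_antisymm ?_ hrel
      exact Subgroup.index_inf_le (H := A) (K := B) |> fun h => by
        rw [← Subgroup.relIndex_mul_index (inf_le_left (a := A) (b := B)), mul_comm A.index,
          inf_comm, Subgroup.inf_relIndex_right] at h
        exact Nat.le_of_mul_le_mul_right h (Nat.pos_of_ne_zero A.index_ne_zero_of_finite)
  obtain ⟨a, ha⟩ := hsur (QuotientGroup.mk s')
  induction a using Quotient.inductionOn' with
  | h a =>
    have hb : (a : G)⁻¹ * s' ∈ B := (QuotientGroup.eq (s := B)).1 ha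
    have hinv : ((a : G)⁻¹ * s') * y' * ((a : G)⁻¹ * s')⁻¹ = y'⁻¹ := by
      calc ((a : G)⁻¹ * s') * y' * ((a : G)⁻¹ * s')⁻¹ = (a : G)⁻¹ * (s' * y' * s'⁻¹) * a := by group
        _ = (a : G)⁻¹ * y'⁻¹ * a := by rw [hs'y]
        _ = y'⁻¹ := by
          have ha' : Commute (a : G) y' := Subgroup.mem_centralizer_singleton_iff.1 a.2
          rw [mul_assoc, ← ha'.inv_right.eq, inv_mul_cancel_left]
    exact comm_false ht2 hb1 hP hp2 hy'p hy'1 hinv (Subgroup.mem_centralizer_singleton_iff.1 hg)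
      (Subgroup.mem_centralizer_singleton_iff.1 hb)

end CfsgLib.RealGraph
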